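import Groth.Agent.Lib.AlgSpPush.Refine
import Groth.Agent.Lib.EtSite.IntegralRefine
import Mathlib.AlgebraicGeometry.Morphisms.UniversallyInjective
import Mathlib.AlgebraicGeometry.Morphisms.QuasiFinite

/-!
# Integral universally injective morphisms have the refinement property
-/

universe u

set_option backward.isDefEq.respectTransparency false

open CategoryTheory CategoryTheory.Limits AlgebraicGeometry Opposite
open Groth.Agent.Lib.EtSite.Basic Groth.Agent.Lib.AlgSpPush.Refine

namespace Groth.Agent.Lib.AlgSpPush.RefineIntegral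

/-- Field-valued points are determined by their composite with a separated universally injective
morphism. -/
theorem eq_of_comp_eq {X Y : Scheme.{u}} (f : X ⟶ Y) [IsSeparated f] [UniversallyInjective f]
    {Ω : Type u} [Field Ω] (x₁ x₂ : Spec (CommRingCat.of Ω) ⟶ X) (h : x₁ ≫ f = x₂ ≫ f) : x₁ = x₂ := by
  let φ := pullback.lift x₁ x₂ h
  have : Surjective (pullback.diagonal f) := (UniversallyInjective.iff_diagonal f).mp ‹_›
  have : IsClosedImmersion (pullback.snd (pullback.diagonal f) φ) :=
    MorphismProperty.pullback_snd (P := @IsClosedImmersion) _ _ inferInstance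
  have : Surjective (pullback.snd (pullback.diagonal f) φ) :=
    MorphismProperty.pullback_snd (P := @Surjective) _ _ inferInstance
  have := isIso_of_isClosedImmersion_of_surjective (pullback.snd (pullback.diagonal f) φ)
  let t := inv (pullback.snd (pullback.diagonal f) φ) ≫ pullback.fst (pullback.diagonal f) φ
  have ht : t ≫ pullback.diagonal f = φ := by
    rw [Category.assoc, pullback.condition, IsIso.inv_hom_id_assoc]
  have h₁ := congrArg (· ≫ pullback.fst f f) ht
  have h₂ := congrArg (· ≫ pullback.snd f f) ht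
  simp only [Category.assoc, pullback.diagonal_fst, pullback.diagonal_snd, Category.comp_id,
    φ, pullback.lift_fst, pullback.lift_snd] at h₁ h₂
  exact h₁.symm.trans h₂

theorem locallyQuasiFinite_of_etale {X Y : Scheme.{u}} (g : X ⟶ Y) [Etale g] : LocallyQuasiFinite g := by
  rw [HasRingHomProperty.iff_appLE (P := @LocallyQuasiFinite)]
  intro U V e
  have h := g.etale_appLE U.2 V.2 e
  algebraize [(g.appLE U V e).hom]
  exact (inferInstance : Algebra.QuasiFinite Γ(Y, U) Γ(X, V))

theorem refProp_integral :
    RefProp (@IsIntegralHom ⊓ @UniversallyInjective : MorphismProperty Scheme.{u}) := by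
  classical
  intro Z V D c g hP hg d
  obtain ⟨hint, hinj⟩ := hP
  have : IsIntegralHom c := hint
  have : UniversallyInjective c := hinj
  -- an open of `D` meeting the fibre of `g` at `g d` only in `d`
  have : LocallyQuasiFinite g := locallyQuasiFinite_of_etale g
  have hdisc : DiscreteTopology ↥(g.base ⁻¹' {g.base d}) :=
    isDiscrete_iff_discreteTopology.mp (g.isDiscrete_preimage_singleton (g.base d))
  obtain ⟨O, hO, hOd⟩ := isOpen_induced_iff.mp (isOpen_discrete ({⟨d, rfl⟩} : Set (g.base ⁻¹' {g.base d})))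
  let O' : D.Opens := ⟨O, hO⟩
  have hd : d ∈ O' := by
    have : (⟨d, rfl⟩ : g.base ⁻¹' {g.base d}) ∈ Subtype.val ⁻¹' O := by rw [hOd]; rfl
    exact this
  have hO1 : ∀ x : D, x ∈ O' → g.base x = g.base d → x = d := fun x hx he => by
    have : (⟨x, he⟩ : g.base ⁻¹' {g.base d}) ∈ Subtype.val ⁻¹' O := hx
    rw [hOd] at this
    exact congrArg Subtype.val this
  -- the geometric point
  let Ω := AlgebraicClosure (D.residueField d)
  let ξD : Spec (CommRingCat.of Ω) ⟶ D :=
    Spec.map (CommRingCat.ofHom (algebraMap (D.residueField d) Ω)) ≫ D.fromSpecResidueField d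
  have hξ : ξD.base default = d := by
    simp only [ξD, Scheme.Hom.comp_apply]
    exact Scheme.fromSpecResidueField_apply d _
  let η : Spec (CommRingCat.of Ω) ⟶ V := ξD ≫ g ≫ c
  let U : Z.Etale := MorphismProperty.Over.mk ⊤ (O'.ι ≫ g) (show Etale _ from inferInstance)
  let top : V.Etale := MorphismProperty.Over.mk ⊤ (𝟙 V) (show Etale _ from inferInstance)
  let p : (Scheme.pointSmallEtale η).fiber.obj top := mkFiber η top η (Category.comp_id _)
  let gU : U ⟶ (EtCoh.bc c).obj top := MorphismProperty.Over.homMk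
    (pullback.lift (U.hom ≫ c) U.hom (Category.comp_id _)) (pullback.lift_snd _ _ _)
  have hpt : ∀ x : Spec (CommRingCat.of Ω) ⟶ ((EtCoh.bc c).obj top).left,
      x ≫ pullback.fst top.hom c = fiberHom p → x ≫ pullback.snd top.hom c = ξD ≫ g := fun x hx => by
    refine eq_of_comp_eq c _ _ ?_
    rw [Category.assoc, ← pullback.condition, ← Category.assoc, hx, Category.assoc]
    exact Category.comp_id _
  have hr : Set.range ξD.base ⊆ Set.range O'.ι.base := by
    rintro _ ⟨t, rfl⟩
    rw [Subsingleton.elim t default, hξ]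
    exact ⟨⟨d, hd⟩, rfl⟩
  obtain ⟨V', a, p', hp', n, Dj, o, i, b, hcov, hbo, -⟩ :=
    EtSite.IntegralRefine.exists_refinement (ι := PUnit.{1}) c top p (fun _ => U) (fun _ => gU)
      (fun _ => Set.univ) (fun _ _ _ => ⟨Set.univ, isOpen_univ, fun _ _ _ => trivial, fun _ _ _ => trivial⟩)
      (fun x hx => by
        refine ⟨⟨⟩, IsOpenImmersion.lift O'.ι ξD hr, trivial, pullback.hom_ext ?_ ?_⟩
        · rw [Category.assoc]
          erw [pullback.lift_fst]
          rw [hx]
          change IsOpenImmersion.lift O'.ι ξD hr ≫ (O'.ι ≫ g) ≫ c = η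
          rw [Category.assoc, IsOpenImmersion.lift_fac_assoc]
        · rw [Category.assoc]
          erw [pullback.lift_snd]
          rw [hpt x hx]
          exact (Category.assoc _ _ _).symm.trans (congrArg (· ≫ g) (IsOpenImmersion.lift_fac _ _ _)))
  have : Etale V'.hom := V'.prop
  let c' := pullback.fst V'.hom c
  have : UniversallyInjective c' := MorphismProperty.pullback_fst (P := @UniversallyInjective) _ _ hinj
  have : IsIntegralHom c' := MorphismProperty.pullback_fst (P := @IsIntegralHom) _ _ hint
  have hp'η : fiberHom p' ≫ V'.hom = η := fiberHom_comp p'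
  let xp : Spec (CommRingCat.of Ω) ⟶ pullback V'.hom c :=
    pullback.lift (fiberHom p') (ξD ≫ g) (by rw [hp'η, Category.assoc])
  let w₀ : ↥(pullback V'.hom c) := xp.base default
  obtain ⟨j, dj, hdj⟩ := hcov.exists_eq w₀
  have := hcov.isOpenImmersion j
  let C : Set V'.left := c'.base '' (Set.range (o j).left.base)ᶜ
  have hC : IsClosed C :=
    c'.isClosedMap _ (o j).left.isOpenEmbedding.isOpen_range.isClosed_compl
  let N : V'.left.Opens := ⟨Cᶜ, hC.isOpen_compl⟩
  have hw₀ : c'.base w₀ ∈ N := fun ⟨w, hw, he⟩ => hw (by rw [c'.injective he]; exact ⟨dj, hdj⟩)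
  let e : N.toScheme ⟶ V := N.ι ≫ V'.hom
  let m : pullback e c ⟶ pullback V'.hom c :=
    pullback.lift (pullback.fst e c ≫ N.ι) (pullback.snd e c)
      (by rw [Category.assoc]; exact pullback.condition)
  have hm : Set.range m.base ⊆ Set.range (o j).left.base := by
    rintro _ ⟨w, rfl⟩
    by_contra hw
    have hN : c'.base (m.base w) ∈ N := by
      rw [← Scheme.Hom.comp_apply]
      erw [pullback.lift_fst]
      exact ((pullback.fst e c).base w).2
    exact hN ⟨_, hw, rfl⟩
  let h : pullback e c ⟶ D := IsOpenImmersion.lift (o j).left m hm ≫ (b j).left ≫ O'.ι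
  have hh : h ≫ g = pullback.snd e c := by
    have h1 : (b j).left ≫ O'.ι ≫ g = (o j).left ≫ pullback.snd V'.hom c :=
      (Over.w (b j).hom).trans (Over.w (o j).hom).symm
    simp only [h, Category.assoc]
    rw [h1, IsOpenImmersion.lift_fac_assoc]
    exact pullback.lift_snd _ _ _
  obtain ⟨w, hw₁, hw₂⟩ := Scheme.Pullback.exists_preimage_pullback (f := e) (g := c)
    (⟨c'.base w₀, hw₀⟩ : N.toScheme) ((pullback.snd V'.hom c).base w₀) (by
      change (pullback.fst V'.hom c ≫ V'.hom).base w₀ = (pullback.snd V'.hom c ≫ c).base w₀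
      rw [pullback.condition]
      rfl)
  refine ⟨N.toScheme, e, h, inferInstance, hh, w, hO1 _ ?_ ?_⟩
  · exact ((IsOpenImmersion.lift (o j).left m hm ≫ (b j).left).base w).2
  · rw [← Scheme.Hom.comp_apply, hh, hw₂, ← Scheme.Hom.comp_apply]
    change (xp ≫ pullback.snd V'.hom c).base default = _
    rw [pullback.lift_snd, Scheme.Hom.comp_apply, hξ]

end Groth.Agent.Lib.AlgSpPush.RefineIntegral
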