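import Groth.Agent.Lib.AlgSpPush.Dense
import Groth.Agent.Lib.AlgSpPush.RefineIntegral
import Groth.Agent.Lib.AlgSpace.Points
import Groth.Prelude.Def_AlgSp4
import Mathlib.CategoryTheory.Adjunction.FullyFaithful

/-!
# Direct images along closed immersions and integral universally injective morphisms are fully faithful
-/

universe u

set_option backward.isDefEq.respectTransparency false

open CategoryTheory CategoryTheory.Limits AlgebraicGeometry Opposite AlgSp
open Groth.Agent.Lib.AlgSpPush.Refine

namespace Groth.Agent.Lib.AlgSpPush.FullyFaithful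

variable {S : Scheme.{u}}

/-- The representing morphisms of a universally injective morphism are universally injective. -/
theorem repWith_universallyInjective {Z X : Sp S} {f : Z ⟶ X} (hf : Representable f)
    (hu : IsUnivInjectiveMor f) : RepWith @UniversallyInjective f := by
  refine ⟨hf, fun T W a fst snd sq => ?_⟩
  refine (universallyInjective_iff _).mpr ?_
  intro W' T' i₁ i₂ f' sq' x₁ x₂ hx
  let T'o : Over S := Over.mk (i₂ ≫ T.hom)
  let W'o : Over S := Over.mk (f' ≫ T'o.hom)
  let f'o : W'o ⟶ T'o := Over.homMk f' rfl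
  let i₂o : T'o ⟶ T := Over.homMk i₂ rfl
  let i₁o : W'o ⟶ W := Over.homMk i₁ (by
    change i₁ ≫ W.hom = f' ≫ i₂ ≫ T.hom
    have e : f' ≫ i₂ = i₁ ≫ snd.left := sq'.w
    rw [← Over.w snd, ← reassoc_of% e])
  have sqo : IsPullback i₁o f'o snd i₂o :=
    IsPullback.of_map (Over.forget S) (Over.OverMorphism.ext sq'.w.symm) sq'.flip
  have big := (sqo.map (yon S)).paste_horiz sq
  have hinj := hu (IsAlgSpace.yon_obj T'o) _ _ _ big
  have he : Points.map ((yon S).map f'o) (Points.ofPt (𝟙 _) x₁) =
      Points.map ((yon S).map f'o) (Points.ofPt (𝟙 _) x₂) := by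
    rw [Points.map_ofPt, Points.map_ofPt, Category.id_comp,
      ← Category.comp_id ((yon S).map f'o), AlgSpace.ofPt_yon_map_comp, AlgSpace.ofPt_yon_map_comp]
    exact congrArg _ hx
  have h := congrArg (Points.toScheme W'o) (hinj he)
  rwa [← (yon S).map_id W'o, Points.toScheme_ofPt, Points.toScheme_ofPt] at h

section

variable {Z X : Sp S} {f : Z ⟶ X} {P : MorphismProperty Scheme.{u}} (hR : RefProp P)
  (hP : RepWith P f) (hX : IsAlgSpace X)

include hR hX in
theorem full_faithful (A : Type*) [Category A] :
    (pushEt hP.1 A).Full ∧ (pushEt hP.1 A).Faithful :=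
  have := Dense.isCoverDense hR hP hX
  have := Dense.isLocallyFull hR hP
  ⟨inferInstance, inferInstance⟩

include hR hX in
theorem isIso_counit
    [((EtOver.bc hP.1).sheafPushforwardContinuous (Type (u + 1)) (etTop X) (etTop Z)).IsRightAdjoint] :
    IsIso (pullPushAdjEt hP.1 (Type (u + 1))).counit :=
  have := (full_faithful hR hP hX (Type (u + 1))).1
  have := (full_faithful hR hP hX (Type (u + 1))).2
  Adjunction.counit_isIso_of_R_fully_faithful _

end

end Groth.Agent.Lib.AlgSpPush.FullyFaithful
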