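import Groth.Agent.Lib.AlgSpPush.Stalk
import Groth.Agent.Lib.AlgSpPush.FullyFaithful
import Groth.Agent.Lib.EtSite.FieldExt
import Mathlib.CategoryTheory.Sites.Point.Skyscraper
import Mathlib.CategoryTheory.Sites.EpiMono

/-!
# Essential image of the direct image along an integral universally injective morphism
-/

universe u

set_option backward.isDefEq.respectTransparency false

open CategoryTheory CategoryTheory.Limits AlgebraicGeometry Opposite AlgSp
open Groth.Agent.Lib.AlgSpStalk.Lifts Groth.Agent.Lib.AlgSpStalk.Point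
open Groth.Agent.Lib.AlgSpPush.Refine Groth.Agent.Lib.AlgSpPush.Dense

namespace Groth.Agent.Lib.AlgSpPush.Essential

variable {S : Scheme.{u}} {Z X : Sp S} {f : Z ⟶ X}

/-- The empty family covers an empty object of the site. -/
theorem bot_mem_of_isEmpty {E : EtOver X} [IsEmpty E.obj.left.left] : ⊥ ∈ etTop X E :=
  AlgSpStalk.Stalks.mem_etTop _ fun p _ x => isEmptyElim (x.1.left (pt₀ p))

section terminal

variable {A : Type (u + 2)} [Category.{u + 1} A] {FA : A → A → Type*} {CA : A → Type (u + 1)}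
  [∀ M N, FunLike (FA M N) (CA M) (CA N)] [ConcreteCategory.{u + 1} A FA]
  [PreservesLimitsOfSize.{u + 1, u + 1} (forget A)]

/-- A sheaf has exactly one section on an empty object. -/
theorem unique_of_isEmpty (F : EtSh X A) (E : EtOver X) [IsEmpty E.obj.left.left] :
    Subsingleton (ToType (F.obj.obj (op E))) ∧ Nonempty (ToType (F.obj.obj (op E))) := by
  have : PreservesLimitsOfShape (Discrete.{0} PEmpty.{1}) (forget A) :=
    preservesLimitsOfShape_of_equiv (Discrete.equivalence (Equiv.equivPEmpty PEmpty.{u + 2})) _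
  have h := (F.isTerminalOfBotCover E bot_mem_of_isEmpty).isTerminalObj (forget A)
  let := Types.isTerminalEquivUnique _ h
  exact ⟨inferInstanceAs (Subsingleton ((forget A).obj (F.obj.obj (op E)))),
    inferInstanceAs (Nonempty ((forget A).obj (F.obj.obj (op E))))⟩

end terminal

variable (hf : Representable f)

theorem isEmpty_bc_of_disjoint (E : EtOver X)
    (h : Disjoint (Set.range (Points.map E.obj.hom)) (Set.range (Points.map f))) :
    IsEmpty ((EtOver.bc hf).obj E).obj.left.left := by
  refine ⟨fun w => Set.disjoint_right.1 h ⟨Points.ofPt (hf.fst E.obj.hom) w, rfl⟩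
    ⟨Points.ofPt ((yon S).map (hf.snd E.obj.hom)) w, ?_⟩⟩
  rw [Points.map_ofPt, Points.map_ofPt, hf.w]

theorem disjoint_of_isEmpty_bc (E : EtOver X) (h : IsEmpty ((EtOver.bc hf).obj E).obj.left.left) :
    Disjoint (Set.range (Points.map E.obj.hom)) (Set.range (Points.map f)) := by
  rw [Set.disjoint_right]
  rintro _ ⟨a, rfl⟩ ⟨b, hb⟩
  obtain ⟨w, -, -⟩ := AlgSpace.exists_of_isPullback (hf.isPullback E.obj.hom) a b hb.symm
  exact h.false (Points.toScheme _ w)

section refine

variable {hf} (hi : RepWith @IsIntegralHom f)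

include hi in
/-- A neighbourhood of a point missing the image can be shrunk to miss it everywhere. -/
theorem exists_disjoint_nbhd (x : FieldPt X) (hx : x.IsGeometric) (N : EtOver X)
    (l : (FieldPt.liftsTo x).obj N)
    (hl : l.1.left (pt₀ x) ∉ Set.range (EtOver.bcπ hi.1 N).left) :
    ∃ (N' : EtOver X) (k : N' ⟶ N) (l' : (FieldPt.liftsTo x).obj N'),
      (FieldPt.liftsTo x).map k l' = l ∧ IsEmpty ((EtOver.bc hi.1).obj N').obj.left.left := by
  have : IsIntegralHom (EtOver.bcπ hi.1 N).left := P_bcπ hi N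
  let O : N.obj.left.left.Opens :=
    ⟨(Set.range (EtOver.bcπ hi.1 N).left)ᶜ, (EtOver.bcπ hi.1 N).left.isClosedMap.isClosed_range.isOpen_compl⟩
  let V : N.obj.left.left.Etale := MorphismProperty.Over.mk ⊤ O.ι (show Etale _ from inferInstance)
  let N' : EtOver X := (EtOver.ofChart N.obj.hom N.property).obj V
  let k : N' ⟶ N := EtOver.homMk (EtOver.homOfEtale V) rfl
  obtain ⟨l', hl', -⟩ := exists_lift_map x hx k l (⟨_, hl⟩ : O) rfl
  refine ⟨N', k, l', hl', ⟨fun w => ?_⟩⟩
  let v : O := (EtOver.bcπ hi.1 N').left w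
  refine v.2 ⟨((EtOver.bc hi.1).map k).hom.left.left w, ?_⟩
  have h := congrArg (fun m => m.left w) (EtOver.bcMap_snd hi.1 k)
  exact h

include hi in
/-- A geometric point whose lift meets the image comes from the source. -/
theorem exists_geometric_preimage (x : FieldPt X) (hx : x.IsGeometric) (N : EtOver X)
    (l : (FieldPt.liftsTo x).obj N)
    (hl : l.1.left (pt₀ x) ∈ Set.range (EtOver.bcπ hi.1 N).left) :
    ∃ z : FieldPt Z, z.IsGeometric ∧ z.map f = x := by
  obtain ⟨K, str, val⟩ := x
  have hK : IsAlgClosed K := hx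
  obtain ⟨w, hw⟩ := hl
  let c := (EtOver.bcπ hi.1 N).left
  have : IsIntegralHom c := P_bcπ hi N
  let lK : Spec (CommRingCat.of K) ⟶ N.obj.left.left := l.1.left
  obtain ⟨w', hw', -⟩ := Scheme.Pullback.exists_preimage_pullback (f := c) (g := lK) w
    (IsLocalRing.closedPoint K) hw
  obtain ⟨s, hs, -⟩ := EtSite.FieldExt.exists_section_of_isIntegralHom (pullback.snd c lK) w'
  have hm : (s ≫ pullback.fst c lK) ≫ c = lK := by
    rw [Category.assoc, pullback.condition, reassoc_of% hs]
  let m : Over.mk str ⟶ ((EtOver.bc hi.1).obj N).obj.left := Over.homMk (s ≫ pullback.fst c lK) (by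
    refine Eq.trans ?_ (Over.w l.1)
    refine (congrArg ((s ≫ pullback.fst c lK) ≫ ·) (Over.w (EtOver.bcπ hi.1 N)).symm).trans ?_
    exact (Category.assoc _ _ _).symm.trans (congrArg (· ≫ N.obj.left.hom) hm))
  have hmc : m ≫ EtOver.bcπ hi.1 N = l.1 := by ext : 1; exact hm
  let z : FieldPt Z := ofHom str ((yon S).map m ≫ hi.1.fst N.obj.hom)
  refine ⟨z, hK, ?_⟩
  have h : ((J S).uliftYonedaEquiv ((yon S).map m ≫ hi.1.fst N.obj.hom ≫ f) : X.obj.obj (op (Over.mk str))) =
      val := by
    rw [hi.1.w, ← Functor.map_comp_assoc, hmc]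
    exact (congrArg _ l.2).trans (FieldPt.uliftYonedaEquiv_toHom _)
  refine congrArg (fun v => (⟨K, str, v⟩ : FieldPt X)) (Eq.trans ?_ h)
  rw [← Category.assoc, GrothendieckTopology.uliftYonedaEquiv_comp]
  rfl

end refine

section stalk

variable (hP : Representable f) (hZ : IsAlgSpace Z) (hX : IsAlgSpace X) (z : FieldPt Z)
  (hz : z.IsGeometric)

/-- Lifts to a base change are lifts of the image point. -/
noncomputable def liftsBcIso :
    EtOver.bc hP ⋙ FieldPt.liftsTo z ≅ FieldPt.liftsTo (z.map f) :=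
  NatIso.ofComponents (fun N => (Equiv.toIso
    { toFun := fun m => ⟨m.1 ≫ EtOver.bcπ hP N, by
        refine Eq.trans ?_ ((congrArg (· ≫ f) m.2).trans (FieldPt.toHom_map f z).symm)
        change _ = ((yon S).map m.1 ≫ hP.fst N.obj.hom) ≫ f
        rw [Functor.map_comp, Category.assoc, Category.assoc, hP.w]⟩
      invFun := fun l => ⟨hP.lift z.toHom l.1 ((l.2.trans (FieldPt.toHom_map f z)).symm),
        hP.lift_fst _ _ _⟩
      left_inv := fun m => Subtype.ext (hP.hom_ext ((hP.lift_fst _ _ _).trans m.2.symm)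
        (hP.lift_snd _ _ _))
      right_inv := fun l => Subtype.ext (hP.lift_snd _ _ _) })) (fun {N N'} k => by
    ext m
    refine Subtype.ext ?_
    change (m.1 ≫ (EtOver.bcMap hP k).hom.left) ≫ hP.snd N'.obj.hom =
      (m.1 ≫ hP.snd N.obj.hom) ≫ k.hom.left
    rw [Category.assoc, EtOver.bcMap_snd, Category.assoc])

variable (A : Type (u + 2)) [Category.{u + 1} A] [HasProducts.{u} A] [HasColimitsOfSize.{u, u} A]

/-- Direct image of a skyscraper is a skyscraper. -/
noncomputable def skyscraperPushIso :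
    (etPoint hZ z hz).skyscraperSheafFunctor (A := A) ⋙ pushEt hP A ≅
      (etPoint hX (z.map f) hz).skyscraperSheafFunctor :=
  NatIso.ofComponents (fun M => (fullyFaithfulSheafToPresheaf _ _).preimageIso
      (Functor.isoWhiskerRight (NatIso.op (liftsBcIso hP z).symm) (piFunctor.{u}.obj M)))
    (fun {M N} g => by
      ext : 1
      ext V : 2
      exact ((piFunctor.{u}.map g).naturality ((liftsBcIso hP z).inv.app V.unop).op).symm)

variable [((EtOver.bc hP).sheafPushforwardContinuous A (etTop X) (etTop Z)).IsRightAdjoint]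

/-- The stalk of an inverse image is the stalk at the image point. -/
noncomputable def stalkPullIso :
    pullEt hP A ⋙ (etPoint hZ z hz).sheafFiber ≅ (etPoint hX (z.map f) hz).sheafFiber :=
  Adjunction.leftAdjointUniq
    (((pullPushAdjEt hP A).comp (etPoint hZ z hz).skyscraperSheafAdjunction).ofNatIsoRight
      (skyscraperPushIso hP hZ hX z hz A))
    (etPoint hX (z.map f) hz).skyscraperSheafAdjunction

end stalk

section main

variable {A : Type (u + 2)} [Category.{u + 1} A] {FA : A → A → Type*} {CA : A → Type (u + 1)}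
  [∀ M N, FunLike (FA M N) (CA M) (CA N)] [ConcreteCategory.{u + 1} A FA]
  [HasProducts.{u} A] [HasColimitsOfSize.{u, u} A]
  [PreservesFilteredColimitsOfSize.{u, u} (forget A)]
  [PreservesLimitsOfSize.{u + 1, u + 1} (forget A)] [(forget A).ReflectsIsomorphisms]
  (hi : RepWith @IsIntegralHom f) (hu : IsUnivInjectiveMor f) (hZ : IsAlgSpace Z) (hX : IsAlgSpace X)
  [((EtOver.bc hi.1).sheafPushforwardContinuous A (etTop X) (etTop Z)).IsRightAdjoint]

include hi hX in
omit [HasProducts.{u} A] [PreservesLimitsOfSize.{u + 1, u + 1} (forget A)]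
  [(forget A).ReflectsIsomorphisms]
  [((EtOver.bc hi.1).sheafPushforwardContinuous A (etTop X) (etTop Z)).IsRightAdjoint] in
theorem subsingleton_fiber {P : (EtOver X)ᵒᵖ ⥤ A} {x : FieldPt X} (hx : x.IsGeometric)
    (hN : ∀ (N : EtOver X) (l : (FieldPt.liftsTo x).obj N),
      l.1.left (pt₀ x) ∉ Set.range (EtOver.bcπ hi.1 N).left)
    (hP : ∀ E : EtOver X, IsEmpty ((EtOver.bc hi.1).obj E).obj.left.left →
      Subsingleton (ToType (P.obj (op E)))) :
    Subsingleton (ToType ((etPoint hX x hx).presheafFiber.obj P)) := by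
  refine ⟨fun a b => ?_⟩
  obtain ⟨N, l, s, t, rfl, rfl⟩ := (etPoint hX x hx).toPresheafFiber_jointly_surjective₂ (A := A) a b
  obtain ⟨N', k, l', hk, hE⟩ := exists_disjoint_nbhd hi x hx N l (hN N l)
  exact ((etPoint hX x hx).toPresheafFiber_eq_iff' N l s t).2
    ⟨N', k, l', hk, (hP N' hE).elim _ _⟩

include hi hu hZ hX in
/-- A sheaf with one section off the image is a direct image. -/
theorem isIso_unit (G : EtSh X A)
    (hG : ∀ E : EtOver X, IsEmpty ((EtOver.bc hi.1).obj E).obj.left.left →
      Subsingleton (ToType (G.obj.obj (op E))) ∧ Nonempty (ToType (G.obj.obj (op E)))) :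
    IsIso ((pullPushAdjEt hi.1 A).unit.app G) := by
  let adj := pullPushAdjEt hi.1 A
  have hP : RepWith (@IsIntegralHom ⊓ @UniversallyInjective : MorphismProperty Scheme.{u}) f :=
    (AlgSpace.repWith_inf_iff).2 ⟨hi, FullyFaithful.repWith_universallyInjective hi.1 hu⟩
  obtain ⟨_, _⟩ := FullyFaithful.full_faithful RefineIntegral.refProp_integral hP hX A
  have : (pushEt hi.1 A).Full := ‹_›
  have : (pushEt hi.1 A).Faithful := ‹_›
  have : IsIso adj.counit := Adjunction.counit_isIso_of_R_fully_faithful _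
  have : IsIso ((pullEt hi.1 A).map (adj.unit.app G)) := by
    have : IsIso (adj.counit.app ((pullEt hi.1 A).obj G)) := inferInstance
    have h := adj.left_triangle_components G
    rw [← IsIso.eq_comp_inv] at h
    rw [h]
    exact @IsIso.comp_isIso _ _ _ _ _ _ _ (IsIso.id _) inferInstance
  set η := adj.unit.app G
  have key : ∀ (x : FieldPt X) (hx : x.IsGeometric),
      Function.Bijective ((etPoint hX x hx).presheafFiber.map η.hom) := by
    intro x hx
    by_cases hN : ∃ (N : EtOver X) (l : (FieldPt.liftsTo x).obj N),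
        l.1.left (pt₀ x) ∈ Set.range (EtOver.bcπ hi.1 N).left
    · obtain ⟨N, l, hl⟩ := hN
      obtain ⟨z, hz, rfl⟩ := exists_geometric_preimage hi x hx N l hl
      have h' : IsIso ((pullEt hi.1 A ⋙ (etPoint hZ z hz).sheafFiber).map η) :=
        inferInstanceAs (IsIso ((etPoint hZ z hz).sheafFiber.map ((pullEt hi.1 A).map η)))
      have : IsIso ((etPoint hX (z.map f) hx).sheafFiber.map η) :=
        (NatIso.isIso_map_iff (stalkPullIso hi.1 hZ hX z hz A) η).1 h'
      exact ConcreteCategory.bijective_of_isIso ((etPoint hX (z.map f) hx).sheafFiber.map η)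
    · push Not at hN
      have h₁ := subsingleton_fiber hi hX hx hN (P := G.obj) fun E hE => (hG E hE).1
      have h₂ := subsingleton_fiber hi hX hx hN
        (P := ((pushEt hi.1 A).obj ((pullEt hi.1 A).obj G)).obj) fun E hE =>
          (unique_of_isEmpty ((pullEt hi.1 A).obj G) ((EtOver.bc hi.1).obj E)).1
      refine ⟨fun a b _ => h₁.elim a b, fun b => ?_⟩
      obtain ⟨⟨N, l⟩⟩ := exists_nbhd hX x hx
      obtain ⟨N', -, l', -, hE⟩ := exists_disjoint_nbhd hi x hx N l (hN N l)
      obtain ⟨t⟩ := (hG N' hE).2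
      exact ⟨(etPoint hX x hx).toPresheafFiber N' l' G.obj t, h₂.elim _ _⟩
  have : PreservesLimitsOfSize.{u, u + 1} (forget A) :=
    preservesLimitsOfSize_shrink.{u + 1, u + 1, u, u + 1} _
  have : (etTop X).HasSheafCompose (forget A) := inferInstance
  exact (Sheaf.isLocallyBijective_iff_isIso η).1
    ⟨AlgSpStalk.Stalks.isLocallyInjective hX η.hom fun p hp => (key p hp).1,
      AlgSpStalk.Stalks.isLocallySurjective hX η.hom fun p hp => (key p hp).2⟩

end main

end Groth.Agent.Lib.AlgSpPush.Essential
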