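import Groth.Agent.Lib.AlgSpPush.Refine
import Groth.Agent.Lib.AlgSpStalk.Stalks
import Groth.Prelude.Def_AlgSpOX3
import Mathlib.CategoryTheory.Sites.DenseSubsite.Basic

/-!
# Base change along `f` with the refinement property is cover dense and locally full
-/

universe u

set_option backward.isDefEq.respectTransparency false

open CategoryTheory CategoryTheory.Limits AlgebraicGeometry Opposite AlgSp
open Groth.Agent.Lib.AlgSpStalk.Lifts Groth.Agent.Lib.AlgSpStalk.Point
open Groth.Agent.Lib.AlgSpPush.Refine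

namespace Groth.Agent.Lib.AlgSpPush.Dense

variable {S : Scheme.{u}} {Z X : Sp S} {f : Z ⟶ X} {P : MorphismProperty Scheme.{u}}
  (hR : RefProp P) (hP : RepWith P f) (hX : IsAlgSpace X)

/-- The canonical lift of a point of the source to a base change. -/
noncomputable def canLift (z : FieldPt Z) {N : EtOver X}
    (l : (FieldPt.liftsTo (z.map f)).obj N) : (FieldPt.liftsTo z).obj ((EtOver.bc hP.1).obj N) :=
  ⟨hP.1.lift z.toHom l.1 ((l.2.trans (FieldPt.toHom_map f z)).symm), hP.1.lift_fst _ _ _⟩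

theorem canLift_snd (z : FieldPt Z) {N : EtOver X} (l : (FieldPt.liftsTo (z.map f)).obj N) :
    (canLift hP z l).1 ≫ EtOver.bcπ hP.1 N = l.1 :=
  hP.1.lift_snd _ _ _

theorem map_canLift (z : FieldPt Z) {N N' : EtOver X} (k : N' ⟶ N)
    (l : (FieldPt.liftsTo (z.map f)).obj N') :
    (FieldPt.liftsTo z).map ((EtOver.bc hP.1).map k) (canLift hP z l) =
      canLift hP z ((FieldPt.liftsTo (z.map f)).map k l) := by
  refine Subtype.ext (hP.1.hom_ext ?_ ?_)
  · exact (((FieldPt.liftsTo z).map _ (canLift hP z l)).2).trans (canLift hP z _).2.symm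
  · refine Eq.trans ?_ (canLift_snd hP z _).symm
    change ((canLift hP z l).1 ≫ (EtOver.bcMap hP.1 k).hom.left) ≫ hP.1.snd N.obj.hom =
      l.1 ≫ k.hom.left
    rw [Category.assoc, EtOver.bcMap_snd, ← Category.assoc]
    exact congrArg (· ≫ k.hom.left) (canLift_snd hP z l)

/-- Every lift to a base change is the canonical one of its projection. -/
theorem exists_eq_canLift (z : FieldPt Z) {N : EtOver X}
    (m : (FieldPt.liftsTo z).obj ((EtOver.bc hP.1).obj N)) :
    ∃ l : (FieldPt.liftsTo (z.map f)).obj N, canLift hP z l = m := by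
  refine ⟨⟨m.1 ≫ EtOver.bcπ hP.1 N, ?_⟩, Subtype.ext (hP.1.hom_ext ?_ ?_)⟩
  · change (yon S).map (m.1 ≫ hP.1.snd N.obj.hom) ≫ N.obj.hom = (z.map f).toHom
    have hm : (yon S).map m.1 ≫ hP.1.fst N.obj.hom = z.toHom := m.2
    refine Eq.trans ?_ ((congrArg (· ≫ f) hm).trans (FieldPt.toHom_map f z).symm)
    rw [Functor.map_comp, Category.assoc, Category.assoc, hP.1.w]
  · exact (canLift hP z _).2.trans m.2.symm
  · exact canLift_snd hP z _

include hR in
/-- Refinement at a geometric point. -/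
theorem exists_refine {z : FieldPt Z} (hz : z.IsGeometric) {N : EtOver X}
    (l : (FieldPt.liftsTo (z.map f)).obj N) {D : EtOver Z} (g : D ⟶ (EtOver.bc hP.1).obj N)
    (ld : (FieldPt.liftsTo z).obj D) (hld : (FieldPt.liftsTo z).map g ld = canLift hP z l) :
    ∃ (N' : EtOver X) (k : N' ⟶ N) (l' : (FieldPt.liftsTo (z.map f)).obj N')
      (h : (EtOver.bc hP.1).obj N' ⟶ D), (FieldPt.liftsTo (z.map f)).map k l' = l ∧
        h ≫ g = (EtOver.bc hP.1).map k ∧ (FieldPt.liftsTo z).map h (canLift hP z l') = ld := by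
  obtain ⟨N', k, h, hhg, w, hw⟩ := exists_refine_pt hR hP N g (ld.1.left (pt₀ z))
  obtain ⟨m, hm, -⟩ := exists_lift_map z hz h ld w hw
  obtain ⟨l', hl'⟩ := exists_eq_canLift hP z m
  subst hl'
  refine ⟨N', k, l', h, ?_, hhg, hm⟩
  have h1 : (FieldPt.liftsTo z).map ((EtOver.bc hP.1).map k) (canLift hP z l') = canLift hP z l := by
    rw [← hhg, Functor.map_comp_apply, hm, hld]
  rw [map_canLift] at h1
  have h2 := congrArg (fun t => t.1 ≫ EtOver.bcπ hP.1 N) h1
  exact Subtype.ext ((canLift_snd hP z _).symm.trans (h2.trans (canLift_snd hP z l)))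

include hR hX in
theorem isCoverDense : (EtOver.bc hP.1).IsCoverDense (etTop Z) := by
  refine ⟨fun D => AlgSpStalk.Stalks.mem_etTop _ fun z hz ld => ?_⟩
  obtain ⟨⟨N, l⟩⟩ := exists_nbhd hX (z.map f) hz
  obtain ⟨m, hm₁, hm₂⟩ := exists_lift_prod z ld (canLift hP z l)
  obtain ⟨N', k, l', h, -, -, hh⟩ :=
    exists_refine hR hP hz l (EtOver.prodSnd D ((EtOver.bc hP.1).obj N)) m hm₂
  refine ⟨_, h ≫ EtOver.prodFst _ _, Presieve.in_coverByImage _ _, canLift hP z l', ?_⟩
  rw [Functor.map_comp_apply, hh, hm₁]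

include hR in
theorem isLocallyFull : (EtOver.bc hP.1).IsLocallyFull (etTop Z) := by
  refine ⟨fun {U V} φ => AlgSpStalk.Stalks.mem_etTop _ fun z hz m => ?_⟩
  obtain ⟨lU, rfl⟩ := exists_eq_canLift hP z m
  obtain ⟨lV, hlV⟩ := exists_eq_canLift hP z ((FieldPt.liftsTo z).map φ (canLift hP z lU))
  obtain ⟨lP, h₁, h₂⟩ := exists_lift_prod (z.map f) lU lV
  -- the graph of `φ`
  let B := (EtOver.bc hP.1).obj
  let Q := EtOver.prodObj U V
  let a : B Q ⟶ B U := (EtOver.bc hP.1).map (EtOver.prodFst U V)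
  let b : B Q ⟶ B V := (EtOver.bc hP.1).map (EtOver.prodSnd U V)
  have ha : (FieldPt.liftsTo z).map a (canLift hP z lP) = canLift hP z lU := by
    rw [map_canLift, h₁]
  have hb : (FieldPt.liftsTo z).map b (canLift hP z lP) = canLift hP z lV := by
    rw [map_canLift, h₂]
  -- the locus where `φ ≫` and `b` agree, inside `bc Q`
  let Δ := EtOver.prodObj (B V) (B V)
  let pr : B Q ⟶ Δ := (EtOver.prodIsLimit (B V) (B V)).lift (BinaryFan.mk (a ≫ φ) b)
  let dg : B V ⟶ Δ := (EtOver.prodIsLimit (B V) (B V)).lift (BinaryFan.mk (𝟙 _) (𝟙 _))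
  have pr₁ : pr ≫ EtOver.prodFst _ _ = a ≫ φ :=
    (EtOver.prodIsLimit (B V) (B V)).fac _ ⟨WalkingPair.left⟩
  have pr₂ : pr ≫ EtOver.prodSnd _ _ = b :=
    (EtOver.prodIsLimit (B V) (B V)).fac _ ⟨WalkingPair.right⟩
  have dg₁ : dg ≫ EtOver.prodFst _ _ = 𝟙 _ :=
    (EtOver.prodIsLimit (B V) (B V)).fac _ ⟨WalkingPair.left⟩
  have dg₂ : dg ≫ EtOver.prodSnd _ _ = 𝟙 _ :=
    (EtOver.prodIsLimit (B V) (B V)).fac _ ⟨WalkingPair.right⟩
  have hpt : (FieldPt.liftsTo z).map pr (canLift hP z lP) =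
      (FieldPt.liftsTo z).map dg (canLift hP z lV) := by
    refine Subtype.ext (Functor.relativelyRepresentable.hom_ext' _ ?_ ?_)
    · change ((canLift hP z lP).1 ≫ pr.hom.left) ≫ (EtOver.prodSnd (B V) (B V)).hom.left =
        ((canLift hP z lV).1 ≫ dg.hom.left) ≫ (EtOver.prodSnd (B V) (B V)).hom.left
      rw [Category.assoc, Category.assoc]
      have e₁ : pr.hom.left ≫ (EtOver.prodSnd (B V) (B V)).hom.left = b.hom.left :=
        congrArg (fun t => t.hom.left) pr₂
      have e₂ : dg.hom.left ≫ (EtOver.prodSnd (B V) (B V)).hom.left = 𝟙 _ :=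
        congrArg (fun t => t.hom.left) dg₂
      rw [e₁, e₂, Category.comp_id]
      exact congrArg Subtype.val hb
    · change ((canLift hP z lP).1 ≫ pr.hom.left) ≫ (EtOver.prodFst (B V) (B V)).hom.left =
        ((canLift hP z lV).1 ≫ dg.hom.left) ≫ (EtOver.prodFst (B V) (B V)).hom.left
      rw [Category.assoc, Category.assoc]
      have e₁ : pr.hom.left ≫ (EtOver.prodFst (B V) (B V)).hom.left = (a ≫ φ).hom.left :=
        congrArg (fun t => t.hom.left) pr₁
      have e₂ : dg.hom.left ≫ (EtOver.prodFst (B V) (B V)).hom.left = 𝟙 _ :=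
        congrArg (fun t => t.hom.left) dg₁
      rw [e₁, e₂, Category.comp_id]
      have := congrArg Subtype.val ((congrArg ((FieldPt.liftsTo z).map φ) ha).trans hlV.symm)
      exact (Category.assoc _ _ _).symm.trans this
  obtain ⟨ld, hld₁, -⟩ := exists_lift_pullback z pr dg (canLift hP z lP) (canLift hP z lV) hpt
  obtain ⟨W, k, lW, h, hk, hh, hhl⟩ :=
    exists_refine hR hP hz lP (EtOver.pullbackFst pr dg) ld hld₁
  have key : (EtOver.bc hP.1).map k ≫ a ≫ φ = (EtOver.bc hP.1).map k ≫ b := by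
    rw [← hh, Category.assoc, Category.assoc, ← pr₁, ← pr₂, ← Category.assoc (EtOver.pullbackFst pr dg),
      EtOver.pullback_condition, ← Category.assoc (EtOver.pullbackFst pr dg),
      EtOver.pullback_condition, Category.assoc, Category.assoc, dg₁, dg₂]
  refine ⟨B W, (EtOver.bc hP.1).map (k ≫ EtOver.prodFst U V),
    Sieve.image_mem_functorPushforward _ _ ⟨k ≫ EtOver.prodSnd U V, ?_⟩, canLift hP z lW, ?_⟩
  · rw [Functor.map_comp, Functor.map_comp, Category.assoc]
    exact key.symm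
  · rw [map_canLift, Functor.map_comp_apply, hk, h₁]

end Groth.Agent.Lib.AlgSpPush.Dense
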