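import Groth.Agent.Lib.AlgSpPush.Essential
import Groth.Agent.Lib.EtSite.IntegralRefine
import Mathlib.CategoryTheory.Abelian.Exact
import Mathlib.CategoryTheory.Abelian.RightDerived

/-!
# Direct images along integral morphisms of algebraic spaces are exact
-/

universe u

set_option backward.isDefEq.respectTransparency false

open CategoryTheory CategoryTheory.Limits AlgebraicGeometry Opposite AlgSp
open Groth.Agent.Lib.AlgSpStalk.Lifts Groth.Agent.Lib.AlgSpStalk.Point
open Groth.Agent.Lib.AlgSpPush.Refine
open Groth.Agent.Lib.EtSite.Basic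

namespace Groth.Agent.Lib.AlgSpPush.Exact

variable {S : Scheme.{u}} {Z X : Sp S} {f : Z ⟶ X}

section

variable {A : Type (u + 2)} [Category.{u + 1} A] {FA : A → A → Type*} {CA : A → Type (u + 1)}
  [∀ M N, FunLike (FA M N) (CA M) (CA N)] [ConcreteCategory.{u + 1} A FA]
  [PreservesLimitsOfSize.{u + 1, u + 1} (forget A)]

/-- Sections on a disjoint open cover glue uniquely. -/
theorem existsUnique_glue (F : EtSh X A) {E : EtOver X} {ι : Type u} (D : ι → EtOver X)
    (o : ∀ j, D j ⟶ E) (hopen : ∀ j, IsOpenImmersion (o j).hom.left.left)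
    (hcov : ∀ x : E.obj.left.left, ∃ (j : ι) (d : (D j).obj.left.left), (o j).hom.left.left d = x)
    (hdisj : ∀ (i j : ι) (x : (D i).obj.left.left) (y : (D j).obj.left.left),
      (o i).hom.left.left x = (o j).hom.left.left y → i = j)
    (s : ∀ j, ToType (F.obj.obj (op (D j)))) :
    ∃! t : ToType (F.obj.obj (op E)), ∀ j, F.obj.map (o j).op t = s j := by
  have : PreservesLimitsOfSize.{u, u + 1} (forget A) :=
    preservesLimitsOfSize_shrink.{u + 1, u + 1, u, u + 1} _
  have hF : Presieve.IsSheaf (etTop X) (F.obj ⋙ forget A) :=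
    (isSheaf_iff_isSheaf_of_type _ _).1 ((sheafCompose (etTop X) (forget A)).obj F).2
  have hS : (Presieve.ofArrows D o).IsSheafFor (F.obj ⋙ forget A) := by
    rw [Presieve.isSheafFor_iff_generate]
    exact hF _ (ofArrows_mem_etTop D o hcov)
  refine (Presieve.isSheafFor_arrows_iff (F.obj ⋙ forget A) o).1 hS s fun i j Y gi gj hg => ?_
  by_cases hij : i = j
  · subst hij
    obtain rfl : gi = gj := by
      refine EtOver.hom_ext _ _ (Over.OverMorphism.ext ?_)
      exact (cancel_mono (o i).hom.left.left).1 (congrArg (fun φ => φ.hom.left.left) hg)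
    rfl
  · have : IsEmpty Y.obj.left.left := ⟨fun y => hij <| hdisj i j _ _
      (congrArg (fun φ => φ.hom.left.left y) hg)⟩
    exact (Essential.unique_of_isEmpty F Y).1.elim _ _

end

variable (hi : RepWith @IsIntegralHom f)

section

variable {A : Type (u + 2)} [Category.{u + 1} A] {FA : A → A → Type*} {CA : A → Type (u + 1)}
  [∀ M N, FunLike (FA M N) (CA M) (CA N)] [ConcreteCategory.{u + 1} A FA]
  [PreservesLimitsOfSize.{u + 1, u + 1} (forget A)]

/-- Local surjectivity is preserved by direct image along an integral morphism. -/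
theorem isLocallySurjective_push {F G : EtSh Z A} (φ : F ⟶ G) [Sheaf.IsLocallySurjective φ] :
    Sheaf.IsLocallySurjective ((pushEt hi.1 A).map φ) := by
  refine ⟨fun {N} t => AlgSpStalk.Stalks.mem_etTop _ fun x hx l => ?_⟩
  obtain ⟨K, str, val⟩ := x
  have : IsAlgClosed K := hx
  let B := (EtOver.bc hi.1).obj N
  let R : Sieve B := Presheaf.imageSieve φ.hom t
  have hR : R ∈ etTop Z B := Presheaf.imageSieve_mem (etTop Z) φ.hom t
  let c : B.obj.left.left ⟶ N.obj.left.left := (EtOver.bcπ hi.1 N).left
  have : IsIntegralHom c := P_bcπ hi N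
  let η : Spec (CommRingCat.of K) ⟶ N.obj.left.left := l.1.left
  let top : N.obj.left.left.Etale :=
    MorphismProperty.Over.mk ⊤ (𝟙 N.obj.left.left) (show Etale _ from inferInstance)
  let p : (Scheme.pointSmallEtale η).fiber.obj top := mkFiber η top η (Category.comp_id _)
  let ι := Σ D : EtOver Z, {g : D ⟶ B // R g}
  let U : ι → B.obj.left.left.Etale := fun i =>
    MorphismProperty.Over.mk ⊤ i.2.1.hom.left.left (EtOver.etale_left i.2.1)
  let g : ∀ i, U i ⟶ (EtCoh.bc c).obj top := fun i => MorphismProperty.Over.homMk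
    (pullback.lift ((U i).hom ≫ c) (U i).hom (Category.comp_id _)) (pullback.lift_snd _ _ _)
  obtain ⟨V', a, p', hp', n, D, o, i, b, hD, -, -⟩ :=
    EtSite.IntegralRefine.exists_refinement c top p U g (fun _ => Set.univ)
      (fun _ _ _ => ⟨Set.univ, isOpen_univ, fun _ _ _ => trivial, fun _ _ _ => trivial⟩)
      (fun x hxp => by
        obtain ⟨q, lq, hq, hlq, hqw⟩ := exists_geometric_over B.obj.hom
          ((x ≫ pullback.snd top.hom c).base default)
        obtain ⟨E, e, he, y, hy⟩ := jointly_surjective q hq R hR ⟨lq, hlq⟩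
        have := EtOver.etale_left e
        obtain ⟨m, hm, -⟩ := Scheme.exists_fac_of_etale_of_isSepClosed e.hom.left.left
          (x ≫ pullback.snd top.hom c) (y.1.left (pt₀ q)) (by
            rw [← hqw]
            exact congrArg (fun r => r.1.left (pt₀ q)) hy)
        refine ⟨⟨E, e, he⟩, m, trivial, pullback.hom_ext ?_ ?_⟩
        · rw [Category.assoc]
          erw [pullback.lift_fst]
          refine (Category.assoc _ _ _).symm.trans ((congrArg (· ≫ c) hm).trans ?_)
          rw [Category.assoc, ← pullback.condition]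
          exact congrArg (x ≫ ·) (Category.comp_id _)
        · rw [Category.assoc]
          erw [pullback.lift_snd]
          exact hm)
  let N' : EtOver X := (EtOver.ofChart N.obj.hom N.property).obj V'
  let k : N' ⟶ N := EtOver.homMk (EtOver.homOfEtale V') rfl
  let B' := (EtOver.bc hi.1).obj N'
  let bk : B' ⟶ B := (EtOver.bc hi.1).map k
  have sq := (EtOver.isPullback_bcMap_left hi.1 k).flip
  let j₀ := sq.isoPullback
  let D' : ULift.{u} (Fin n) → EtOver Z := fun j => (EtOver.ofChart B.obj.hom B.property).obj (D j.down)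
  have hDw : ∀ j : ULift.{u} (Fin n),
      ((o j.down).left ≫ j₀.inv) ≫ bk.hom.left.left = (D j.down).hom := fun j => by
    rw [Category.assoc]
    erw [sq.isoPullback_inv_snd]
    exact MorphismProperty.Over.w (o j.down)
  let o' : ∀ j, D' j ⟶ B' := fun j =>
    let m : (D' j).obj.left ⟶ B'.obj.left := Over.homMk ((o j.down).left ≫ j₀.inv) (by
      rw [← Over.w bk.hom.left, ← Category.assoc, hDw]
      rfl)
    EtOver.homMk m (by
      rw [← EtOver.w bk, ← Functor.map_comp_assoc,
        show m ≫ bk.hom.left = EtOver.homOfEtale (D j.down) from Over.OverMorphism.ext (hDw j)]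
      rfl)
  have hbw : ∀ j : ULift.{u} (Fin n),
      (b j.down).left ≫ (i j.down).2.1.hom.left.left = (D j.down).hom :=
    fun j => MorphismProperty.Over.w (b j.down)
  let b' : ∀ j, D' j ⟶ (i j.down).1 := fun j =>
    let m : (D' j).obj.left ⟶ (i j.down).1.obj.left := Over.homMk (b j.down).left (by
      rw [← Over.w (i j.down).2.1.hom.left, ← Category.assoc]
      exact congrArg (· ≫ B.obj.left.hom) (hbw j))
    EtOver.homMk m (by
      rw [← EtOver.w (i j.down).2.1, ← Functor.map_comp_assoc,
        show m ≫ (i j.down).2.1.hom.left = EtOver.homOfEtale (D j.down) from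
          Over.OverMorphism.ext (hbw j)]
      rfl)
  have hb' : ∀ j, b' j ≫ (i j.down).2.1 = o' j ≫ bk := fun j =>
    EtOver.hom_ext _ _ (Over.OverMorphism.ext ((hbw j).trans (hDw j).symm))
  have hopen : ∀ j, IsOpenImmersion (o' j).hom.left.left := fun j => by
    have := hD.isOpenImmersion j.down
    exact inferInstanceAs (IsOpenImmersion ((o j.down).left ≫ j₀.inv))
  have hcov : ∀ w : B'.obj.left.left, ∃ (j : ULift.{u} (Fin n)) (d : (D' j).obj.left.left),
      (o' j).hom.left.left d = w := fun w => by
    obtain ⟨j, d, hd⟩ := hD.exists_eq (j₀.hom w)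
    refine ⟨⟨j⟩, d, ?_⟩
    exact (congrArg j₀.inv.base hd).trans (congrArg (fun m => m.base w) j₀.hom_inv_id)
  have he : ∀ (j : Fin n) (d : (D j).left),
      j₀.hom.base (((o j).left ≫ j₀.inv).base d) = (o j).left.base d := fun j d =>
    congrArg (fun m => m.base d) (show ((o j).left ≫ j₀.inv) ≫ j₀.hom = (o j).left from
      (Category.assoc _ _ _).trans (((o j).left ≫= j₀.inv_hom_id).trans (Category.comp_id _)))
  have hdisj : ∀ (j j' : ULift.{u} (Fin n)) (d : (D' j).obj.left.left) (d' : (D' j').obj.left.left),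
      (o' j).hom.left.left d = (o' j').hom.left.left d' → j = j' := fun j j' d d' h => by
    refine ULift.ext _ _ (hD.disjoint j.down j'.down d d' ?_)
    exact (he j.down d).symm.trans ((congrArg j₀.hom.base h).trans (he j'.down d'))
  obtain ⟨s, hs, -⟩ := existsUnique_glue F D' o' hopen hcov hdisj fun j =>
    F.obj.map (b' j).op (Presheaf.localPreimage φ.hom t (i j.down).2.1 (i j.down).2.2)
  have hpt : a.left.base (fiberPt p') = η.base default :=
    (fiberPt_map a p').symm.trans (congrArg fiberPt hp')
  have hv : V'.hom.base (fiberPt p') = η.base default :=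
    (congrArg (fun m => m.base (fiberPt p'))
      ((MorphismProperty.Over.w a).symm.trans (Category.comp_id _))).trans hpt
  obtain ⟨l', hl', -⟩ := exists_lift_map _ hx k l (fiberPt p')
    (hv.trans (congrArg η.base (Subsingleton.elim _ _)))
  refine ⟨N', k, ⟨s, ?_⟩, l', hl'⟩
  refine (existsUnique_glue G D' o' hopen hcov hdisj
    fun j => G.obj.map (o' j).op (G.obj.map bk.op t)).unique (fun j => ?_) (fun _ => rfl)
  change G.obj.map (o' j).op (φ.hom.app (op B') s) = _
  rw [← NatTrans.naturality_apply φ.hom (o' j).op s, hs j]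
  refine (NatTrans.naturality_apply φ.hom (b' j).op _).trans ?_
  erw [Presheaf.app_localPreimage]
  rw [← ConcreteCategory.comp_apply, ← ConcreteCategory.comp_apply, ← Functor.map_comp,
    ← Functor.map_comp, ← op_comp, ← op_comp, hb']
  rfl

end

include hi in
theorem preservesEpimorphisms_push : (pushEt hi.1 AddCommGrpCat.{u + 1}).PreservesEpimorphisms where
  preserves φ h := by
    have := (Sheaf.isLocallySurjective_iff_epi' (φ := φ)).2 h
    have := isLocallySurjective_push hi φ
    exact Sheaf.epi_of_isLocallySurjective _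

include hi in
theorem preservesHomology_push : (pushEt hi.1 AddCommGrpCat.{u + 1}).PreservesHomology := by
  have := preservesEpimorphisms_push hi
  have : PreservesLimitsOfSize.{0, 0} (pushEt hi.1 AddCommGrpCat.{u + 1}) :=
    (pullPushAdjEt hi.1 AddCommGrpCat.{u + 1}).rightAdjoint_preservesLimits
  have : ∀ ⦃F G : AbEt Z⦄ (φ : F ⟶ G),
      PreservesLimit (parallelPair φ 0) (pushEt hi.1 AddCommGrpCat.{u + 1}) := fun F G φ =>
    PreservesLimitsOfShape.preservesLimit
  exact Functor.preservesHomology_of_preservesEpis_and_kernels _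

include hi in
theorem preservesFiniteColimits_push :
    PreservesFiniteColimits (pushEt hi.1 AddCommGrpCat.{u + 1}) := by
  have := preservesHomology_push hi
  exact (pushEt hi.1 AddCommGrpCat.{u + 1}).preservesFiniteColimits_of_preservesHomology

/-- Higher direct images along integral morphisms vanish. -/
theorem isZero_Rpush (F : AbEt Z) (q : ℕ) (hq : 0 < q) : IsZero ((RpushEt hi.1 q).obj F) := by
  obtain ⟨n, rfl⟩ := Nat.exists_eq_succ_of_ne_zero hq.ne'
  have := preservesHomology_push hi
  let I := InjectiveResolution.of F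
  refine IsZero.of_iso ?_ (I.isoRightDerivedObj (pushEt hi.1 AddCommGrpCat.{u + 1}) (n + 1))
  refine (HomologicalComplex.exactAt_iff_isZero_homology _ _).1 ?_
  exact (I.cocomplex_exactAt_succ n).map (pushEt hi.1 AddCommGrpCat.{u + 1})

end Groth.Agent.Lib.AlgSpPush.Exact
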