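import Groth.Agent.Lib.AlgSpStalk.Point
import Groth.Agent.Lib.Henselian.EtaleLift
import Groth.Prelude.Def_AlgSpOX2
import Mathlib.AlgebraicGeometry.Morphisms.ClosedImmersion
import Mathlib.AlgebraicGeometry.Morphisms.Etale

/-!
# Étale objects over a base change are refined by base changes

`RefProp P`: for a morphism `c : Z ⟶ V` with `P`, an étale `g : D ⟶ Z` and `d ∈ D`, some étale
`V' ⟶ V` has `V' ×_V Z ⟶ D` over `Z` hitting `d`. Closed immersions have it.
-/

universe u

set_option backward.isDefEq.respectTransparency false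

open CategoryTheory CategoryTheory.Limits AlgebraicGeometry Opposite AlgSp
open Groth.Agent.Lib.AlgSpStalk.Lifts Groth.Agent.Lib.AlgSpStalk.Point

namespace Groth.Agent.Lib.AlgSpPush.Refine

/-- Étale schemes over the source are refined by base changes of étale schemes over the target. -/
def RefProp (P : MorphismProperty Scheme.{u}) : Prop :=
  ∀ ⦃Z V D : Scheme.{u}⦄ (c : Z ⟶ V) (g : D ⟶ Z), P c → Etale g → ∀ d : D,
    ∃ (V' : Scheme.{u}) (e : V' ⟶ V) (h : pullback e c ⟶ D),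
      Etale e ∧ h ≫ g = pullback.snd e c ∧ ∃ w, h.base w = d

/-- Closed immersions have the refinement property. -/
theorem refProp_isClosedImmersion : RefProp (@IsClosedImmersion : MorphismProperty Scheme.{u}) := by
  intro Z V D c g hc hg d
  obtain ⟨W, hW, hdW, -⟩ :=
    exists_isAffineOpen_mem_and_subset (x := c.base (g.base d)) (U := (⊤ : V.Opens)) trivial
  have hZ : IsAffineOpen (c ⁻¹ᵁ W) := hW.preimage c
  obtain ⟨WD, hWD, hdWD, hle⟩ :=
    exists_isAffineOpen_mem_and_subset (x := d) (U := g ⁻¹ᵁ (c ⁻¹ᵁ W)) hdW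
  let φ : Γ(V, W) ⟶ Γ(Z, c ⁻¹ᵁ W) := c.app W
  let ψ : Γ(Z, c ⁻¹ᵁ W) ⟶ Γ(D, WD) := g.appLE (c ⁻¹ᵁ W) WD hle
  have hφ : Function.Surjective φ.hom := c.app_surjective W hW
  have hψ : ψ.hom.Etale := g.etale_appLE hZ hWD hle
  let I := RingHom.ker φ.hom
  let e₀ : Γ(V, W) ⧸ I ≃+* Γ(Z, c ⁻¹ᵁ W) := RingHom.quotientKerEquivOfSurjective hφ
  letI : Algebra Γ(V, W) Γ(D, WD) := (φ ≫ ψ).hom.toAlgebra
  letI : Algebra (Γ(V, W) ⧸ I) Γ(D, WD) := (ψ.hom.comp e₀.toRingHom).toAlgebra
  have : IsScalarTower Γ(V, W) (Γ(V, W) ⧸ I) Γ(D, WD) :=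
    IsScalarTower.of_algebraMap_eq fun _ => rfl
  have : Algebra.Etale (Γ(V, W) ⧸ I) Γ(D, WD) :=
    RingHom.etale_algebraMap.mp (RingHom.Etale.respectsIso.2 ψ.hom e₀ hψ)
  obtain ⟨L, _, _, hL, π, hπ, hker⟩ :=
    Henselian.EtaleLift.exists_etale_lift I (Γ(D, WD) : Type u)
  let σ : Γ(V, W) ⟶ CommRingCat.of L := CommRingCat.ofHom (algebraMap Γ(V, W) L)
  let π' : CommRingCat.of L ⟶ Γ(D, WD) := CommRingCat.ofHom π.toRingHom
  have hσπ : σ ≫ π' = φ ≫ ψ := CommRingCat.hom_ext π.comp_algebraMap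
  let e : Spec (CommRingCat.of L) ⟶ V := Spec.map σ ≫ hW.fromSpec
  have he : Etale e := by
    have : Etale (Spec.map σ) :=
      (HasRingHomProperty.Spec_iff (P := @Etale)).2 (RingHom.etale_algebraMap.mpr hL)
    infer_instance
  have hcW : Spec.map φ ≫ hW.fromSpec = hZ.fromSpec ≫ c := by
    have := hW.SpecMap_appLE_fromSpec c hZ le_rfl
    rwa [Scheme.Hom.appLE_eq_app] at this
  have hgW : Spec.map ψ ≫ hZ.fromSpec = hWD.fromSpec ≫ g :=
    hZ.SpecMap_appLE_fromSpec g hWD hle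
  let k : Spec Γ(D, WD) ⟶ pullback e c :=
    pullback.lift (Spec.map π') (hWD.fromSpec ≫ g) (by
      rw [← Spec.map_comp_assoc, hσπ, Spec.map_comp_assoc, hcW, Category.assoc,
        ← reassoc_of% hgW])
  have hk : IsIso k := by
    have sq : IsPullback (hZ.fromSpec) (Spec.map φ) c hW.fromSpec := by
      refine (IsOpenImmersion.isPullback (Spec.map φ) hZ.fromSpec hW.fromSpec c hcW.symm ?_).flip
      ext x
      change c.base x ∈ Set.range hW.fromSpec.base ↔ x ∈ Set.range hZ.fromSpec.base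
      rw [hW.range_fromSpec, hZ.range_fromSpec]
      rfl
    have sq₂ : IsPullback (Spec.map ψ) (Spec.map π') (Spec.map φ) (Spec.map σ) := by
      refine isPullback_SpecMap_of_isPushout φ σ ψ π' ?_
      have hI : ∀ (T : CommRingCat.{u}) (a : Γ(Z, c ⁻¹ᵁ W) ⟶ T) (b : CommRingCat.of L ⟶ T),
          φ ≫ a = σ ≫ b → RingHom.ker π.toRingHom ≤ RingHom.ker b.hom := fun T a b hab => by
        rw [hker, Ideal.map_le_iff_le_comap]
        intro r hr
        have h1 : a.hom (φ.hom r) = b.hom (σ.hom r) := congrArg (fun m => m.hom r) hab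
        rw [show φ.hom r = 0 from hr, map_zero] at h1
        exact h1.symm
      refine ⟨⟨hσπ.symm⟩, ⟨PushoutCocone.IsColimit.mk _
        (fun s => CommRingCat.ofHom (RingHom.liftOfSurjective π.toRingHom hπ
          ⟨s.inr.hom, hI _ s.inl s.inr s.condition⟩)) (fun s => ?_) (fun s => ?_)
        (fun s m _ hm => ?_)⟩⟩
      · refine CommRingCat.hom_ext (RingHom.ext fun z => ?_)
        obtain ⟨r, rfl⟩ := hφ z
        have h1 : ψ.hom (φ.hom r) = π.toRingHom (σ.hom r) :=
          congrArg (fun m => m.hom r) hσπ.symm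
        change RingHom.liftOfSurjective π.toRingHom hπ _ (ψ.hom (φ.hom r)) = _
        rw [h1, RingHom.liftOfRightInverse_comp_apply]
        exact (congrArg (fun m => m.hom r) s.condition).symm
      · exact CommRingCat.hom_ext (RingHom.ext fun z =>
          RingHom.liftOfSurjective_comp_apply π.toRingHom hπ
            ⟨s.inr.hom, hI _ s.inl s.inr s.condition⟩ z)
      · refine CommRingCat.hom_ext (RingHom.ext fun z => ?_)
        obtain ⟨l, rfl⟩ := hπ z
        refine (congrArg (fun n => n.hom l) hm).trans ?_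
        exact (RingHom.liftOfSurjective_comp_apply π.toRingHom hπ
          ⟨s.inr.hom, hI _ s.inl s.inr s.condition⟩ l).symm
    have sq₃ := (sq₂.paste_horiz sq).flip
    have : k = sq₃.isoPullback.hom := pullback.hom_ext
      ((pullback.lift_fst _ _ _).trans sq₃.isoPullback_hom_fst.symm)
      (((pullback.lift_snd _ _ _).trans hgW.symm).trans sq₃.isoPullback_hom_snd.symm)
    rw [this]
    infer_instance
  refine ⟨_, e, inv k ≫ hWD.fromSpec, he, ?_, k.base (hWD.primeIdealOf ⟨d, hdWD⟩), ?_⟩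
  · rw [Category.assoc, IsIso.inv_comp_eq]
    exact (pullback.lift_snd _ _ _).symm
  · rw [← Scheme.Hom.comp_apply, IsIso.hom_inv_id_assoc]
    exact hWD.fromSpec_primeIdealOf ⟨d, hdWD⟩

variable {S : Scheme.{u}} {Z X : Sp S} {f : Z ⟶ X} (hf : Representable f)
  {P : MorphismProperty Scheme.{u}}

theorem P_bcπ (hP : RepWith P f) (N : EtOver X) : P (EtOver.bcπ hP.1 N).left :=
  hP.2 N.obj.hom _ _ (hP.1.isPullback N.obj.hom)

/-- An object over a base change is refined by a base change. -/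
theorem exists_refine_pt (hR : RefProp P) (hP : RepWith P f) (N : EtOver X) {D : EtOver Z}
    (g : D ⟶ (EtOver.bc hP.1).obj N) (d : ↥D.obj.left.left) :
    ∃ (N' : EtOver X) (k : N' ⟶ N) (h : (EtOver.bc hP.1).obj N' ⟶ D),
      h ≫ g = (EtOver.bc hP.1).map k ∧ ∃ w, h.hom.left.left.base w = d := by
  obtain ⟨V', e, h₀, he, hh₀, w₀, hw₀⟩ :=
    hR (EtOver.bcπ hP.1 N).left g.hom.left.left (P_bcπ hP N) (EtOver.etale_left g) d
  let V : N.obj.left.left.Etale := MorphismProperty.Over.mk ⊤ e he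
  let N' : EtOver X := (EtOver.ofChart N.obj.hom N.property).obj V
  let k : N' ⟶ N := EtOver.homMk (EtOver.homOfEtale V) rfl
  have sq := EtOver.isPullback_bcMap_left hP.1 k
  let ι := sq.flip.isoPullback
  let hs : ((EtOver.bc hP.1).obj N').obj.left.left ⟶ D.obj.left.left := ι.hom ≫ h₀
  have hsg : hs ≫ g.hom.left.left = ((EtOver.bc hP.1).map k).hom.left.left := by
    rw [Category.assoc, hh₀]
    exact sq.flip.isoPullback_hom_snd
  let hS : ((EtOver.bc hP.1).obj N').obj.left ⟶ D.obj.left := Over.homMk hs (by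
    rw [← Over.w g.hom.left, ← Category.assoc, hsg]
    exact Over.w ((EtOver.bc hP.1).map k).hom.left)
  have hSg : hS ≫ g.hom.left = ((EtOver.bc hP.1).map k).hom.left := Over.OverMorphism.ext hsg
  let h : (EtOver.bc hP.1).obj N' ⟶ D := EtOver.homMk hS (by
    rw [← EtOver.w g, ← Functor.map_comp_assoc, hSg]
    exact EtOver.w _)
  refine ⟨N', k, h, EtOver.hom_ext _ _ hSg, ι.inv.base w₀, ?_⟩
  change (ι.hom ≫ h₀).base (ι.inv.base w₀) = d
  rw [← Scheme.Hom.comp_apply, Iso.inv_hom_id_assoc]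
  exact hw₀

end Groth.Agent.Lib.AlgSpPush.Refine
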