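import Groth.Agent.Lib.AlgSpPush.Dense

/-!
# Stalks of direct images along morphisms with the refinement property
-/

universe v' u' u

set_option backward.isDefEq.respectTransparency false

open CategoryTheory CategoryTheory.Limits AlgebraicGeometry Opposite AlgSp
open Groth.Agent.Lib.AlgSpStalk.Lifts Groth.Agent.Lib.AlgSpStalk.Point
open Groth.Agent.Lib.AlgSpPush.Refine Groth.Agent.Lib.AlgSpPush.Dense

namespace Groth.Agent.Lib.AlgSpPush.Stalk

variable {S : Scheme.{u}} {Z X : Sp S} {f : Z ⟶ X} {P : MorphismProperty Scheme.{u}}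
  (hP : RepWith P f) (hZ : IsAlgSpace Z) (hX : IsAlgSpace X) (z : FieldPt Z) (hz : z.IsGeometric)

/-- The point of the etale site of the target under a geometric point of the source. -/
noncomputable abbrev imgPoint : GrothendieckTopology.Point.{u} (etTop X) :=
  etPoint hX (z.map f) hz

section

variable {A : Type u'} [Category.{v'} A] [HasColimitsOfSize.{u, u} A]

/-- The comparison map from the stalk of a direct image at the image point. -/
noncomputable def toStalk (Q : (EtOver Z)ᵒᵖ ⥤ A) :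
    (imgPoint (f := f) hX z hz).presheafFiber.obj ((EtOver.bc hP.1).op ⋙ Q) ⟶
      (etPoint hZ z hz).presheafFiber.obj Q :=
  (imgPoint (f := f) hX z hz).presheafFiberDesc
    (fun N l => (etPoint hZ z hz).toPresheafFiber ((EtOver.bc hP.1).obj N) (canLift hP z l) Q)
    (fun N N' k l => by
      refine ((etPoint hZ z hz).toPresheafFiber_w ((EtOver.bc hP.1).map k) (canLift hP z l) Q).trans ?_
      exact congrArg (fun t => (etPoint hZ z hz).toPresheafFiber _ t Q) (map_canLift hP z k l))

@[reassoc]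
theorem toPresheafFiber_toStalk (Q : (EtOver Z)ᵒᵖ ⥤ A) (N : EtOver X)
    (l : (FieldPt.liftsTo (z.map f)).obj N) :
    (imgPoint (f := f) hX z hz).toPresheafFiber N l ((EtOver.bc hP.1).op ⋙ Q) ≫
        toStalk hP hZ hX z hz Q =
      (etPoint hZ z hz).toPresheafFiber ((EtOver.bc hP.1).obj N) (canLift hP z l) Q :=
  (imgPoint (f := f) hX z hz).toPresheafFiber_presheafFiberDesc _ _ N l

end

section

variable {A : Type u'} [Category.{v'} A] [HasColimitsOfSize.{u, u} A]
  {FC : A → A → Type*} {CC : A → Type (u + 1)}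
  [∀ (M N : A), FunLike (FC M N) (CC M) (CC N)] [ConcreteCategory.{u + 1} A FC]
  [PreservesFilteredColimitsOfSize.{u, u} (forget A)]

omit [PreservesFilteredColimitsOfSize.{u, u} (forget A)] in
theorem toStalk_apply (Q : (EtOver Z)ᵒᵖ ⥤ A) (N : EtOver X)
    (l : (FieldPt.liftsTo (z.map f)).obj N) (s : ToType (Q.obj (op ((EtOver.bc hP.1).obj N)))) :
    toStalk hP hZ hX z hz Q
        ((imgPoint (f := f) hX z hz).toPresheafFiber N l ((EtOver.bc hP.1).op ⋙ Q) s) =
      (etPoint hZ z hz).toPresheafFiber ((EtOver.bc hP.1).obj N) (canLift hP z l) Q s :=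
  (ConcreteCategory.comp_apply _ _ s).symm.trans
    (congrArg (fun m => (ConcreteCategory.hom m) s) (toPresheafFiber_toStalk hP hZ hX z hz Q N l))

variable (hR : RefProp P)

include hR in
theorem bijective_toStalk (Q : (EtOver Z)ᵒᵖ ⥤ A) :
    Function.Bijective (toStalk hP hZ hX z hz Q) := by
  let Φ := imgPoint (f := f) hX z hz
  let Ψ := etPoint hZ z hz
  refine ⟨fun a b h => ?_, fun b => ?_⟩
  · obtain ⟨N, l, s, t, rfl, rfl⟩ := Φ.toPresheafFiber_jointly_surjective₂ (A := A) a b
    rw [toStalk_apply, toStalk_apply] at h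
    obtain ⟨D, g, ld, hld, hst⟩ :=
      (Ψ.toPresheafFiber_eq_iff' _ (canLift hP z l) s t).1 h
    obtain ⟨N', k, l', q, hk, hq, -⟩ := exists_refine hR hP hz l g ld hld
    refine (Φ.toPresheafFiber_eq_iff' N l s t).2 ⟨N', k, l', hk, ?_⟩
    change Q.map ((EtOver.bc hP.1).map k).op s = Q.map ((EtOver.bc hP.1).map k).op t
    rw [← hq, op_comp, Functor.map_comp, ConcreteCategory.comp_apply, ConcreteCategory.comp_apply]
    exact congrArg _ hst
  · obtain ⟨D, ld, s, rfl⟩ := Ψ.toPresheafFiber_jointly_surjective (A := A) b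
    obtain ⟨⟨N, l⟩⟩ := exists_nbhd hX (z.map f) hz
    obtain ⟨m, hm₁, hm₂⟩ := exists_lift_prod z ld (canLift hP z l)
    obtain ⟨N', k, l', q, -, -, hql⟩ :=
      exists_refine hR hP hz l (EtOver.prodSnd D ((EtOver.bc hP.1).obj N)) m hm₂
    refine ⟨Φ.toPresheafFiber N' l' ((EtOver.bc hP.1).op ⋙ Q) (Q.map (q ≫ EtOver.prodFst _ _).op s),
      (toStalk_apply hP hZ hX z hz Q N' l' _).trans ?_⟩
    refine (Ψ.toPresheafFiber_w_apply (q ≫ EtOver.prodFst _ _) (canLift hP z l') Q s).trans ?_
    refine congrArg (fun t => Ψ.toPresheafFiber D t Q s) ?_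
    exact (Functor.map_comp_apply _ _ _ _).trans ((congrArg _ hql).trans hm₁)

end

end Groth.Agent.Lib.AlgSpPush.Stalk
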